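import Groth.Agent.Lib.Tori.Comm
import Groth.Agent.H87.GmFibre
import Groth.Agent.H1.GrpIrred
import Groth.Prelude.Def_TwC
import Mathlib.FieldTheory.Galois.Basic
import Mathlib.LinearAlgebra.TensorProduct.Basis

/-!
# Points of affine schemes with values in algebras, Galois descent of points
-/

set_option autoImplicit false
universe u

open CategoryTheory MonoidalCategory CartesianMonoidalCategory MonObj GrpObj AlgebraicGeometry
open scoped TensorProduct

namespace Groth.Agent.Lib.RetrTorus76.Basic

variable {k : Type u} [Field k]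

/-- The spectrum of an algebra as a scheme over `k`. -/
noncomputable abbrev pt (B : Type u) [CommRing B] [Algebra k B] : Over (Spec (CommRingCat.of k)) :=
  Over.mk (Spec.map (CommRingCat.ofHom (algebraMap k B)))

/-- The morphism attached to a map of algebras. -/
noncomputable def ptMap {B C : Type u} [CommRing B] [Algebra k B] [CommRing C] [Algebra k C]
    (f : B →ₐ[k] C) : pt (k := k) C ⟶ pt B :=
  Over.homMk (Spec.map (CommRingCat.ofHom f.toRingHom)) (by
    change Spec.map _ ≫ Spec.map _ = Spec.map _
    rw [← Spec.map_comp]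
    congr 1
    ext x
    exact f.commutes x)

theorem ptMap_left {B C : Type u} [CommRing B] [Algebra k B] [CommRing C] [Algebra k C]
    (f : B →ₐ[k] C) : (ptMap f).left = Spec.map (CommRingCat.ofHom f.toRingHom) := rfl

theorem ptMap_comp {B C D : Type u} [CommRing B] [Algebra k B] [CommRing C] [Algebra k C]
    [CommRing D] [Algebra k D] (f : B →ₐ[k] C) (g : C →ₐ[k] D) :
    ptMap g ≫ ptMap f = ptMap (g.comp f) := by
  apply Over.OverMorphism.ext
  change Spec.map _ ≫ Spec.map _ = Spec.map _
  rw [← Spec.map_comp]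
  rfl

theorem ptMap_id (B : Type u) [CommRing B] [Algebra k B] : ptMap (AlgHom.id k B) = 𝟙 _ := by
  apply Over.OverMorphism.ext
  exact Spec.map_id _

variable {T : Over (Spec (CommRingCat.of k))} [IsAffine T.left]

/-- The ring map attached to a point of an affine scheme. -/
noncomputable def ringMap {B : Type u} [CommRing B] [Algebra k B] (x : pt B ⟶ T) :
    Γ(T.left, ⊤) →+* B :=
  (Spec.preimage (x.left ≫ T.left.isoSpec.hom)).hom

theorem map_ringMap {B : Type u} [CommRing B] [Algebra k B] (x : pt B ⟶ T) :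
    Spec.map (CommRingCat.ofHom (ringMap x)) = x.left ≫ T.left.isoSpec.hom :=
  Spec.map_preimage _

theorem ringMap_comp {B C : Type u} [CommRing B] [Algebra k B] [CommRing C] [Algebra k C]
    (f : B →ₐ[k] C) (x : pt B ⟶ T) : ringMap (ptMap f ≫ x) = f.toRingHom.comp (ringMap x) := by
  have : CommRingCat.ofHom (ringMap (ptMap f ≫ x)) =
      CommRingCat.ofHom (f.toRingHom.comp (ringMap x)) := by
    apply Spec.map_injective
    rw [CommRingCat.ofHom_comp, Spec.map_comp, map_ringMap, map_ringMap]
    simp [ptMap_left, Category.assoc]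
  exact congrArg CommRingCat.Hom.hom this

theorem ringMap_injective {B : Type u} [CommRing B] [Algebra k B] {x y : pt B ⟶ T}
    (h : ringMap x = ringMap y) : x = y := by
  apply Over.OverMorphism.ext
  rw [← cancel_mono T.left.isoSpec.hom, ← map_ringMap, ← map_ringMap, h]

/-- An injective map of algebras gives an injective map on points. -/
theorem comp_injective {B C : Type u} [CommRing B] [Algebra k B] [CommRing C] [Algebra k C]
    (f : B →ₐ[k] C) (hf : Function.Injective f) {x y : pt B ⟶ T}
    (h : ptMap f ≫ x = ptMap f ≫ y) : x = y := by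
  apply ringMap_injective
  ext b
  apply hf
  have := congrArg ringMap h
  rw [ringMap_comp, ringMap_comp] at this
  exact RingHom.congr_fun this b

/-- Invariants of a Galois extension after an arbitrary base change. -/
theorem mem_range_of_fixed {A K : Type u} [CommRing A] [Algebra k A] [Field K] [Algebra k K]
    [FiniteDimensional k K] [IsGalois k K] (z : A ⊗[k] K)
    (h : ∀ g : K ≃ₐ[k] K, Algebra.TensorProduct.map (AlgHom.id k A) g.toAlgHom z = z) :
    ∃ a : A, a ⊗ₜ[k] (1 : K) = z := by
  classical
  let b := Module.Free.chooseBasis k A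
  let E := TensorProduct.equivFinsuppOfBasisLeft (N := K) b
  have hE : ∀ (g : K ≃ₐ[k] K) (w : A ⊗[k] K) (i),
      E (Algebra.TensorProduct.map (AlgHom.id k A) g.toAlgHom w) i = g (E w i) := by
    intro g w i
    induction w using TensorProduct.induction_on with
    | zero => simp
    | tmul p q => simp [E]
    | add p q hp hq => simp [hp, hq]
  have hmem : ∀ i, ∃ c : k, algebraMap k K c = E z i := fun i =>
    RingHom.mem_range.mp ((IsGalois.mem_range_algebraMap_iff_fixed _).mpr fun g => by
      rw [← hE g z i, h g])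
  choose c hc using hmem
  refine ⟨∑ i ∈ (E z).support, c i • b i, ?_⟩
  conv_rhs => rw [← E.symm_apply_apply z]
  rw [TensorProduct.equivFinsuppOfBasisLeft_symm_apply, TensorProduct.sum_tmul]
  refine Finset.sum_congr rfl fun i _ => ?_
  rw [TensorProduct.smul_tmul]
  congr 1
  rw [← hc i, Algebra.algebraMap_eq_smul_one]

/-- Galois descent of points of an affine scheme. -/
theorem exists_descend {A K : Type u} [CommRing A] [Algebra k A] [Field K] [Algebra k K]
    [FiniteDimensional k K] [IsGalois k K] (x : pt (k := k) (A ⊗[k] K) ⟶ T)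
    (h : ∀ g : K ≃ₐ[k] K, ptMap (Algebra.TensorProduct.map (AlgHom.id k A) g.toAlgHom) ≫ x = x) :
    ∃ r : pt A ⟶ T, ptMap (Algebra.TensorProduct.includeLeft : A →ₐ[k] A ⊗[k] K) ≫ r = x := by
  let i : A →ₐ[k] A ⊗[k] K := Algebra.TensorProduct.includeLeft
  have hi : Function.Injective i :=
    Algebra.TensorProduct.includeLeft_injective (algebraMap k K).injective
  have hmem : ∀ b, ringMap x b ∈ i.toRingHom.range := by
    intro b
    obtain ⟨a, ha⟩ := mem_range_of_fixed (ringMap x b) fun g => by
      have := congrArg ringMap (h g)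
      rw [ringMap_comp] at this
      exact RingHom.congr_fun this b
    exact ⟨a, ha⟩
  choose ψ hψ using hmem
  let ψ' : Γ(T.left, ⊤) →+* A :=
    { toFun := ψ
      map_one' := hi ((hψ 1).trans ((map_one _).trans (map_one i).symm))
      map_mul' := fun a b => hi ((hψ _).trans ((map_mul _ a b).trans (by
        rw [map_mul]; exact congrArg₂ (· * ·) (hψ a).symm (hψ b).symm)))
      map_zero' := hi ((hψ 0).trans ((map_zero _).trans (map_zero i).symm))
      map_add' := fun a b => hi ((hψ _).trans ((map_add _ a b).trans (by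
        rw [map_add]; exact congrArg₂ (· + ·) (hψ a).symm (hψ b).symm))) }
  have hcomp : i.toRingHom.comp ψ' = ringMap x := RingHom.ext hψ
  have key : (Spec.map (CommRingCat.ofHom ψ') ≫ T.left.isoSpec.inv) ≫ T.hom =
      Spec.map (CommRingCat.ofHom (algebraMap k A)) := by
    rw [← Spec.map_preimage ((Spec.map (CommRingCat.ofHom ψ') ≫ T.left.isoSpec.inv) ≫ T.hom)]
    congr 1
    ext c
    apply hi
    have h2 : Spec.map (Spec.preimage ((Spec.map (CommRingCat.ofHom ψ') ≫ T.left.isoSpec.inv) ≫ T.hom) ≫
        CommRingCat.ofHom i.toRingHom) = Spec.map (CommRingCat.ofHom (algebraMap k (A ⊗[k] K))) := by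
      rw [Spec.map_comp, Spec.map_preimage, ← Category.assoc, ← Category.assoc, ← Spec.map_comp,
        ← CommRingCat.ofHom_comp, hcomp, map_ringMap, Category.assoc x.left, Iso.hom_inv_id,
        Category.comp_id]
      exact Over.w x
    exact (RingHom.congr_fun (congrArg CommRingCat.Hom.hom (Spec.map_injective h2)) c).trans
      (i.commutes c).symm
  refine ⟨Over.homMk (Spec.map (CommRingCat.ofHom ψ') ≫ T.left.isoSpec.inv) key, ?_⟩
  apply Over.OverMorphism.ext
  change Spec.map _ ≫ Spec.map _ ≫ _ = _
  rw [← Category.assoc, ← Spec.map_comp, ← CommRingCat.ofHom_comp, hcomp, map_ringMap,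
    Category.assoc, Iso.hom_inv_id, Category.comp_id]

omit [IsAffine T.left]

/-- A torus over a field is connected. -/
theorem connectedSpace_torus [GrpObj T] (hT : Red.IsTorus T) : ConnectedSpace T.left := by
  obtain ⟨S', f, -, hsurj, -, hloc⟩ := id hT
  obtain ⟨s', -⟩ := f.surjective (IsLocalRing.closedPoint k)
  obtain ⟨U, hU, r, hr⟩ := hloc s'
  obtain ⟨u₀⟩ : Nonempty (U : Scheme.{u}) := ⟨⟨s', hU⟩⟩
  obtain ⟨ε⟩ := Groth.Agent.Lib.Tori.Basic.isSplit_bc hr ((U : Scheme.{u}).fromSpecResidueField u₀)
  let h := (U : Scheme.{u}).fromSpecResidueField u₀ ≫ U.ι ≫ f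
  let E := Groth.Agent.Lib.Tori.BaseChange.overIso
    ((Groth.Agent.Lib.Tori.BaseChange.bcComp ((U : Scheme.{u}).fromSpecResidueField u₀) (U.ι ≫ f) T) ≪≫ ε)
  haveI := Groth.Agent.H87.GmFibre.connectedSpace_ds ((U : Scheme.{u}).residueField u₀) r
  haveI : ConnectedSpace (Red.bc h T).left := by
    haveI : IsIso E.inv.left := ((Over.forget _).mapIso E).isIso_inv
    exact E.inv.left.homeomorph.surjective.connectedSpace E.inv.left.homeomorph.continuous
  haveI : Surjective h := ⟨fun x => ⟨IsLocalRing.closedPoint _, Subsingleton.elim (α := PrimeSpectrum k) _ _⟩⟩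
  haveI : ConnectedSpace ↥(Limits.pullback T.hom h) := ‹ConnectedSpace (Red.bc h T).left›
  exact (Limits.pullback.fst T.hom h).surjective.connectedSpace (Limits.pullback.fst T.hom h).continuous

/-- A torus over a field stays irreducible after every field extension. -/
theorem irreducibleSpace_bc_torus [GrpObj T] (hT : Red.IsTorus T) (K : Type u) [Field K]
    (f : Spec (CommRingCat.of K) ⟶ Spec (CommRingCat.of k)) :
    IrreducibleSpace (Red.bc f T).left := by
  have h := Groth.Agent.Lib.Tori.Basic.isTorus_bc hT f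
  haveI := connectedSpace_torus h
  haveI := Groth.Agent.Lib.Tori.Basic.smooth_of_isTorus h
  haveI := Groth.Agent.Lib.Tori.Basic.isAffineHom_of_isTorus h
  exact Groth.Agent.H1.GrpIrred.irreducibleSpace (Red.bc f T)

/-- An isotrivial torus is a torus. -/
theorem isTorus_of_finiteEtale {S : Scheme.{u}} {G : Over S} [GrpObj G]
    (hG : ∃ r : ℕ, TwC.Locally S .finiteEtale
      (fun S' g => Red.IsSplitTorusWith (Fin r → ℤ) (Red.bc g G))) : Red.IsTorus G := by
  obtain ⟨r, S', f, hfin, het, hsurj, hloc⟩ := hG
  refine ⟨S', f, inferInstance, hsurj, Groth.Agent.Lib.Tori.Basic.isQCCover_of_qc f, fun s' => ?_⟩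
  obtain ⟨U, hU, -, hr⟩ := hloc s'
  exact ⟨U, hU, r, hr⟩

end Groth.Agent.Lib.RetrTorus76.Basic
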