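import Groth.Agent.Lib.RetrTorus76.Main

/-!
# Lifting over local rings with arbitrary residue field
-/

set_option autoImplicit false
universe u

open CategoryTheory MonoidalCategory CartesianMonoidalCategory MonObj GrpObj AlgebraicGeometry
open scoped TensorProduct
open Groth.Agent.Lib.RetrTorus76.Basic Groth.Agent.Lib.RetrTorus76.Main

namespace Groth.Agent.Lib.RetrTorus76.Finite

variable {k : Type u} [Field k]

/-- Finite field extensions of coprime degrees give a field. -/
theorem isField_tensor (K E : Type u) [Field K] [Field E] [Algebra k K] [Algebra k E]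
    [FiniteDimensional k K] [FiniteDimensional k E]
    (h : (Module.finrank k K).Coprime (Module.finrank k E)) : IsField (K ⊗[k] E) := by
  refine IntermediateField.LinearDisjoint.isField_of_forall k K E fun Ω _ _ fa fb => ?_
  have e1 := (AlgEquiv.ofInjectiveField fa).toLinearEquiv.finrank_eq
  have e2 := (AlgEquiv.ofInjectiveField fb).toLinearEquiv.finrank_eq
  rw [e1, e2] at h
  exact IntermediateField.LinearDisjoint.of_finrank_coprime h

/-- A nonzero polynomial of small degree has a nonvanishing point in a finite domain. -/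
theorem exists_eval₂_ne_zero {K R : Type u} [CommRing K] [CommRing R] [IsDomain R] [Fintype R]
    {n : ℕ} (f : K →+* R) (hf : Function.Injective f) (g : MvPolynomial (Fin n) K) (hg : g ≠ 0)
    (hcard : g.totalDegree < Fintype.card R) : ∃ c, MvPolynomial.eval₂ f c g ≠ 0 := by
  by_contra hcon
  push Not at hcon
  apply hg
  apply MvPolynomial.map_injective f hf
  rw [map_zero]
  refine MvPolynomial.eq_zero_of_eval_zero_at_prod_finset _ (fun _ => Finset.univ) (fun i => ?_) fun x _ => ?_
  · rw [Finset.card_univ]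
    refine (((MvPolynomial.map f g).degreeOf_le_totalDegree i).trans ?_).trans_lt hcard
    exact Finset.sup_mono (MvPolynomial.support_map_subset f g)
  · rw [MvPolynomial.eval_map]
    exact hcon x

variable {T : Over (Spec (CommRingCat.of k))} [GrpObj T] [IsAffine T.left]
  (U : T.left.Opens) (n : ℕ)
  (Y : (Spec (CommRingCat.of (MvPolynomial (Fin n) k))).Opens)
  (a : (U : Scheme.{u}) ⟶ (Y : Scheme.{u})) (b : (Y : Scheme.{u}) ⟶ (U : Scheme.{u}))
  (hab : a ≫ b = 𝟙 (U : Scheme.{u}))
  (ha : a ≫ Y.ι ≫ Spec.map (CommRingCat.ofHom (algebraMap k (MvPolynomial (Fin n) k))) = U.ι ≫ T.hom)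
  (hb : b ≫ U.ι ≫ T.hom = Y.ι ≫ Spec.map (CommRingCat.ofHom (algebraMap k (MvPolynomial (Fin n) k))))

include hab ha hb in
/-- The `d`-th power of a point over the residue field lifts, for `d` the degree of a Galois
extension linearly disjoint from the residue field with enough elements. -/
theorem lift_pow (hcomm : ∀ (X : Over (Spec (CommRingCat.of k))) (x y : X ⟶ T), x * y = y * x)
    {A K : Type u} [CommRing A] [IsLocalRing A] [Algebra k A] [Field K] [Algebra k K]
    (θ : A →ₐ[k] K) (hθ : Function.Surjective θ) (E : Type u) [Field E] [Algebra k E]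
    [FiniteDimensional k E] [IsGalois k E] (hF : IsField (K ⊗[k] E))
    (u : pt K ⟶ T) (g : MvPolynomial (Fin n) K)
    (hg : ∀ (L : Type u) [Field L] [Algebra k L] (f : K →ₐ[k] L) (c : Fin n → L),
      MvPolynomial.eval₂ f.toRingHom c g ≠ 0 →
      ∃ w w₂ : pt L ⟶ T, In U w ∧ In U w₂ ∧ w * w₂ = ptMap f ≫ u)
    (c : Fin n → K ⊗[k] E)
    (hc : MvPolynomial.eval₂ (Algebra.TensorProduct.includeLeft : K →ₐ[k] K ⊗[k] E).toRingHom c g ≠ 0) :
    ∃ s : pt A ⟶ T, ptMap θ ≫ s = u ^ Module.finrank k E := by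
  classical
  let θ' : A ⊗[k] E →ₐ[k] K ⊗[k] E := Algebra.TensorProduct.map θ (AlgHom.id k E)
  have hθ' : Function.Surjective θ' :=
    Algebra.TensorProduct.map_surjective θ (AlgHom.id k E) hθ Function.surjective_id
  let inA : A →ₐ[k] A ⊗[k] E := Algebra.TensorProduct.includeLeft
  let inK : K →ₐ[k] K ⊗[k] E := Algebra.TensorProduct.includeLeft
  have hmax : (RingHom.ker θ').IsMaximal := by
    letI := hF.toField
    exact RingHom.ker_isMaximal_of_surjective _ hθ'
  haveI : IsLocalRing (A ⊗[k] E) := by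
    refine IsLocalRing.of_unique_max_ideal ⟨RingHom.ker θ', hmax, fun M hM => ?_⟩
    haveI := hM
    haveI := Ideal.isMaximal_comap_of_isIntegral_of_isMaximal (R := A) M
    have h1 : M.comap (algebraMap A (A ⊗[k] E)) = RingHom.ker θ :=
      (IsLocalRing.eq_maximalIdeal ‹_›).trans
        (IsLocalRing.eq_maximalIdeal (RingHom.ker_isMaximal_of_surjective _ hθ)).symm
    refine (hmax.eq_of_le hM.ne_top ?_).symm
    rw [show RingHom.ker θ' = _ from Algebra.TensorProduct.rTensor_ker (C := E) θ hθ, Ideal.map_le_iff_le_comap]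
    exact h1.ge
  obtain ⟨w, w₂, hw, hw₂, hmul⟩ := @hg (K ⊗[k] E) hF.toField _ inK c hc
  obtain ⟨s₁, hs₁⟩ := @lift_mem k _ T U n Y a b hab ha hb (A ⊗[k] E) (K ⊗[k] E) _ _ _ hF.toField _ θ' hθ' w hw
  obtain ⟨s₂, hs₂⟩ := @lift_mem k _ T U n Y a b hab ha hb (A ⊗[k] E) (K ⊗[k] E) _ _ _ hF.toField _ θ' hθ' w₂ hw₂
  letI : CommGroup (pt (A ⊗[k] E) ⟶ T) := { (inferInstance : Group (pt (A ⊗[k] E) ⟶ T)) with mul_comm := hcomm _ }
  letI : CommGroup (pt (K ⊗[k] E) ⟶ T) := { (inferInstance : Group (pt (K ⊗[k] E) ⟶ T)) with mul_comm := hcomm _ }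
  have hs : ptMap θ' ≫ (s₁ * s₂) = ptMap inK ≫ u := by rw [MonObj.comp_mul, hs₁, hs₂, hmul]
  let m : (E ≃ₐ[k] E) → (A ⊗[k] E →ₐ[k] A ⊗[k] E) := fun h =>
    Algebra.TensorProduct.map (AlgHom.id k A) h.toAlgHom
  let N : pt (A ⊗[k] E) ⟶ T := ∏ h : E ≃ₐ[k] E, precomp (ptMap (m h)) (s₁ * s₂)
  have hm : ∀ h h', (m h).comp (m h') = m (h * h') := by
    intro h h'
    apply Algebra.TensorProduct.ext' fun p q => ?_
    simp [m]
  obtain ⟨r, hr⟩ := exists_descend (T := T) N fun h => by
    show precomp (ptMap (m h)) N = N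
    rw [map_prod]
    refine Fintype.prod_equiv (Equiv.mulLeft h) _ _ fun h' => ?_
    show ptMap (m h) ≫ ptMap (m h') ≫ (s₁ * s₂) = ptMap (m (h * h')) ≫ (s₁ * s₂)
    rw [← Category.assoc, ptMap_comp, hm]
  have hN : precomp (ptMap θ') N = (ptMap inK ≫ u) ^ Module.finrank k E := by
    rw [map_prod]
    have : ∀ h : E ≃ₐ[k] E, precomp (ptMap θ') (precomp (ptMap (m h)) (s₁ * s₂)) = ptMap inK ≫ u := by
      intro h
      let τ : K ⊗[k] E →ₐ[k] K ⊗[k] E := Algebra.TensorProduct.map (AlgHom.id k K) h.toAlgHom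
      have h1 : θ'.comp (m h) = τ.comp θ' := by
        apply Algebra.TensorProduct.ext' fun p q => ?_
        simp [θ', τ, m]
      have h2 : τ.comp inK = inK := by
        ext p
        simp [τ, inK]
      show ptMap θ' ≫ ptMap (m h) ≫ (s₁ * s₂) = _
      rw [← Category.assoc, ptMap_comp, h1, ← ptMap_comp, Category.assoc, hs, ← Category.assoc,
        ptMap_comp, h2]
    rw [Finset.prod_congr rfl fun h _ => this h, Finset.prod_const, Finset.card_univ,
      ← Nat.card_eq_fintype_card, IsGalois.card_aut_eq_finrank]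
  refine ⟨r, comp_injective inK
    (Algebra.TensorProduct.includeLeft_injective (algebraMap k E).injective) ?_⟩
  have h3 : inK.comp θ = θ'.comp inA := by
    ext p
    simp [θ', inA, inK]
  rw [← Category.assoc, ptMap_comp, h3, ← ptMap_comp, Category.assoc, hr, MonObj.comp_pow]
  exact hN

include hab ha hb in
/-- Every point over the residue field of a local algebra lifts. -/
theorem exists_lift (hcomm : ∀ (X : Over (Spec (CommRingCat.of k))) (x y : X ⟶ T), x * y = y * x)
    (hU : (U : Set T.left).Nonempty)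
    (hirr : ∀ (K : Type u) [Field K] [Algebra k K],
      IrreducibleSpace ↥(Limits.pullback T.hom (Spec.map (CommRingCat.ofHom (algebraMap k K)))))
    {A K : Type u} [CommRing A] [IsLocalRing A] [Algebra k A] [Field K] [Algebra k K]
    (θ : A →ₐ[k] K) (hθ : Function.Surjective θ) (u : pt K ⟶ T) :
    ∃ s : pt A ⟶ T, ptMap θ ≫ s = u := by
  classical
  obtain ⟨g, hg0, hg⟩ := exists_decomp U n Y a b hab ha hb u hU (hirr K)
  rcases finite_or_infinite K with hK | hK
  · haveI : Finite k := Finite.of_injective _ (algebraMap k K).injective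
    let p := ringChar k
    haveI : Fact p.Prime := ⟨CharP.char_is_prime k p⟩
    have hmain : ∀ d : ℕ, d.Prime → Module.finrank k K < d → g.totalDegree < d →
        ∃ s : pt A ⟶ T, ptMap θ ≫ s = u ^ d := by
      intro d hd hdm hdg
      haveI : NeZero d := ⟨hd.ne_zero⟩
      let E := ULift.{u} (FiniteField.Extension k p d)
      haveI : Module.Finite k E := Module.Finite.equiv (ULift.moduleEquiv (R := k)).symm
      haveI : IsGalois k E := IsGalois.of_algEquiv (ULift.algEquiv (R := k)).symm
      have hEd : Module.finrank k E = d :=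
        ((ULift.moduleEquiv (R := k)).finrank_eq).trans (FiniteField.finrank_extension k p d)
      have hF : IsField (K ⊗[k] E) := isField_tensor K E (by
        rw [hEd]
        refine (hd.coprime_iff_not_dvd.mpr fun h => ?_).symm
        exact absurd (Nat.le_of_dvd Module.finrank_pos h) (not_le.mpr hdm))
      haveI : IsDomain (K ⊗[k] E) := hF.isDomain
      haveI : Finite (K ⊗[k] E) := Module.finite_of_finite k
      letI : Fintype (K ⊗[k] E) := Fintype.ofFinite _
      have hcard : g.totalDegree < Fintype.card (K ⊗[k] E) := by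
        refine hdg.trans_le ?_
        rw [← Nat.card_eq_fintype_card, Module.natCard_eq_pow_finrank (K := k), Module.finrank_tensorProduct, hEd]
        refine (Nat.lt_two_pow_self (n := d)).le.trans ((Nat.pow_le_pow_left (Finite.one_lt_card) d).trans
          (Nat.pow_le_pow_right Nat.card_pos (Nat.le_mul_of_pos_left d Module.finrank_pos)))
      let inK : K →ₐ[k] K ⊗[k] E := Algebra.TensorProduct.includeLeft
      have hinK : Function.Injective inK :=
        Algebra.TensorProduct.includeLeft_injective (algebraMap k E).injective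
      obtain ⟨c, hc⟩ := exists_eval₂_ne_zero inK.toRingHom hinK g hg0 hcard
      exact hEd ▸ lift_pow U n Y a b hab ha hb hcomm θ hθ E hF u g hg c hc
    obtain ⟨d, hd1, hd⟩ := Nat.exists_infinite_primes (max (Module.finrank k K) g.totalDegree + 1)
    obtain ⟨d', hd1', hd'⟩ := Nat.exists_infinite_primes (d + 1)
    obtain ⟨s, hs⟩ := hmain d hd (by omega) (by omega)
    obtain ⟨s', hs'⟩ := hmain d' hd' (by omega) (by omega)
    have hbez : ((d : ℤ) * d.gcdA d' + (d' : ℤ) * d.gcdB d') = 1 := by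
      rw [← Nat.gcd_eq_gcd_ab, Nat.Coprime.gcd_eq_one ((Nat.coprime_primes hd hd').mpr (by omega))]
      rfl
    refine ⟨s ^ d.gcdA d' * s' ^ d.gcdB d', ?_⟩
    show precomp (ptMap θ) (s ^ d.gcdA d' * s' ^ d.gcdB d') = u
    rw [map_mul, map_zpow, map_zpow]
    show (ptMap θ ≫ s) ^ d.gcdA d' * (ptMap θ ≫ s') ^ d.gcdB d' = u
    rw [hs, hs', ← zpow_natCast, ← zpow_mul, ← zpow_natCast, ← zpow_mul, ← zpow_add, hbez, zpow_one]
  · obtain ⟨c, hc⟩ : ∃ c : Fin n → K, MvPolynomial.eval c g ≠ 0 := by
      by_contra hcon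
      push Not at hcon
      exact hg0 (MvPolynomial.funext fun x => by simp [hcon x])
    obtain ⟨w, w₂, hw, hw₂, hmul⟩ := hg K (AlgHom.id k K) c hc
    obtain ⟨s₁, hs₁⟩ := lift_mem U n Y a b hab ha hb θ hθ w hw
    obtain ⟨s₂, hs₂⟩ := lift_mem U n Y a b hab ha hb θ hθ w₂ hw₂
    exact ⟨s₁ * s₂, by rw [MonObj.comp_mul, hs₁, hs₂, hmul, ptMap_id, Category.id_comp]⟩

end Groth.Agent.Lib.RetrTorus76.Finite
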