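import Groth.Agent.Lib.RetrTorus76.Basic
import Mathlib.FieldTheory.LinearDisjoint
import Mathlib.FieldTheory.Finite.Extension
import Mathlib.Combinatorics.Nullstellensatz
import Mathlib.RingTheory.Spectrum.Prime.Topology

/-!
# Lifting points of a retract rational torus
-/

set_option autoImplicit false
universe u

open CategoryTheory MonoidalCategory CartesianMonoidalCategory MonObj GrpObj AlgebraicGeometry
open scoped TensorProduct
open Groth.Agent.Lib.RetrTorus76.Basic

namespace Groth.Agent.Lib.RetrTorus76.Main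

variable {k : Type u} [Field k]

/-- Restriction of points, as a homomorphism of groups. -/
noncomputable def precomp {X Y G : Over (Spec (CommRingCat.of k))} [GrpObj G] (f : X ⟶ Y) :
    (Y ⟶ G) →* (X ⟶ G) where
  toFun x := f ≫ x
  map_one' := MonObj.comp_one f
  map_mul' a b := MonObj.comp_mul f a b

/-- All points of a morphism lie in an open. -/
def In {X T : Over (Spec (CommRingCat.of k))} (U : T.left.Opens) (x : X ⟶ T) : Prop :=
  ∀ y, x.left.base y ∈ U

variable {T : Over (Spec (CommRingCat.of k))} (U : T.left.Opens) (n : ℕ)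
  (Y : (Spec (CommRingCat.of (MvPolynomial (Fin n) k))).Opens)
  (a : (U : Scheme.{u}) ⟶ (Y : Scheme.{u})) (b : (Y : Scheme.{u}) ⟶ (U : Scheme.{u}))
  (hab : a ≫ b = 𝟙 (U : Scheme.{u}))
  (ha : a ≫ Y.ι ≫ Spec.map (CommRingCat.ofHom (algebraMap k (MvPolynomial (Fin n) k))) = U.ι ≫ T.hom)
  (hb : b ≫ U.ι ≫ T.hom = Y.ι ≫ Spec.map (CommRingCat.ofHom (algebraMap k (MvPolynomial (Fin n) k))))

include ha in
/-- Coordinates of a point with values in the open. -/
theorem exists_coord {L : Type u} [CommRing L] [Algebra k L] (v : pt L ⟶ T) (hv : In U v) :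
    ∃ (v' : Spec (CommRingCat.of L) ⟶ (U : Scheme.{u})) (c : MvPolynomial (Fin n) k →ₐ[k] L),
      v' ≫ U.ι = v.left ∧ Spec.map (CommRingCat.ofHom c.toRingHom) = v' ≫ a ≫ Y.ι := by
  have hr : Set.range v.left ⊆ Set.range U.ι := by
    rw [Scheme.Opens.range_ι]
    rintro _ ⟨y, rfl⟩
    exact hv y
  let v' := IsOpenImmersion.lift U.ι v.left hr
  have hv' : v' ≫ U.ι = v.left := IsOpenImmersion.lift_fac _ _ _
  let φ := Spec.preimage (v' ≫ a ≫ Y.ι)
  refine ⟨v', { φ.hom with commutes' := fun r => ?_ }, hv', Spec.map_preimage _⟩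
  have h2 : Spec.map (CommRingCat.ofHom (algebraMap k (MvPolynomial (Fin n) k)) ≫ φ) =
      Spec.map (CommRingCat.ofHom (algebraMap k L)) := by
    rw [Spec.map_comp, Spec.map_preimage]
    simp only [Category.assoc]
    rw [ha, reassoc_of% hv']
    exact Over.w v
  exact RingHom.congr_fun (congrArg CommRingCat.Hom.hom (Spec.map_injective h2)) r

include hab ha hb in
/-- Points with values in the open lift along surjections of local algebras. -/
theorem lift_mem {A L : Type u} [CommRing A] [IsLocalRing A] [Algebra k A] [Field L] [Algebra k L]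
    (θ : A →ₐ[k] L) (hθ : Function.Surjective θ) (v : pt L ⟶ T) (hv : In U v) :
    ∃ s : pt A ⟶ T, ptMap θ ≫ s = v := by
  obtain ⟨v', c, hv', hc⟩ := exists_coord U n Y a ha v hv
  choose lam hlam using fun i => hθ (c (MvPolynomial.X i))
  let e : MvPolynomial (Fin n) k →ₐ[k] A := MvPolynomial.aeval lam
  have he : θ.comp e = c := by
    refine MvPolynomial.algHom_ext fun i => ?_
    simp [e, hlam]
  have hce : Spec.map (CommRingCat.ofHom θ.toRingHom) ≫ Spec.map (CommRingCat.ofHom e.toRingHom) =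
      v' ≫ a ≫ Y.ι := by
    rw [← Spec.map_comp, ← hc, ← he]
    rfl
  have hclosed : ∀ y : Spec (CommRingCat.of L),
      (Spec.map (CommRingCat.ofHom θ.toRingHom)).base y = IsLocalRing.closedPoint A := by
    intro y
    apply PrimeSpectrum.ext
    have hy : y.asIdeal = ⊥ := (Ideal.eq_bot_or_top _).resolve_right y.isPrime.ne_top
    change Ideal.comap θ.toRingHom y.asIdeal = _
    rw [hy]
    haveI : (RingHom.ker θ.toRingHom).IsMaximal := RingHom.ker_isMaximal_of_surjective _ hθ
    exact IsLocalRing.eq_maximalIdeal (RingHom.ker_isMaximal_of_surjective _ hθ)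
  have hr : Set.range (Spec.map (CommRingCat.ofHom e.toRingHom)) ⊆ Set.range Y.ι := by
    rw [Scheme.Opens.range_ι]
    rintro _ ⟨x, rfl⟩
    let y : Spec (CommRingCat.of L) := IsLocalRing.closedPoint L
    have h0 : (Spec.map (CommRingCat.ofHom e.toRingHom)).base (IsLocalRing.closedPoint A) ∈ Y := by
      rw [← hclosed y, ← Scheme.Hom.comp_apply, hce, Scheme.Hom.comp_apply, Scheme.Hom.comp_apply]
      exact (a.base (v'.base y)).2
    exact ((IsLocalRing.specializes_closedPoint x).map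
      (Spec.map (CommRingCat.ofHom e.toRingHom)).continuous).mem_open Y.2 h0
  let ℓ := IsOpenImmersion.lift Y.ι (Spec.map (CommRingCat.ofHom e.toRingHom)) hr
  have hl : ℓ ≫ Y.ι = Spec.map (CommRingCat.ofHom e.toRingHom) := IsOpenImmersion.lift_fac _ _ _
  refine ⟨Over.homMk (ℓ ≫ b ≫ U.ι) ?_, ?_⟩
  · change (ℓ ≫ b ≫ U.ι) ≫ T.hom = Spec.map _
    simp only [Category.assoc]
    rw [hb, reassoc_of% hl, ← Spec.map_comp]
    congr 1
    ext r
    exact e.commutes r
  · apply Over.OverMorphism.ext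
    change Spec.map _ ≫ ℓ ≫ b ≫ U.ι = v.left
    have : Spec.map (CommRingCat.ofHom θ.toRingHom) ≫ ℓ = v' ≫ a := by
      rw [← cancel_mono Y.ι, Category.assoc, hl, hce, Category.assoc]
    rw [reassoc_of% this, reassoc_of% hab, hv']

variable [GrpObj T]

include hab ha hb in
/-- Every point over a field is a product of two points with values in the open after any
substitution avoiding the zeros of a suitable nonzero polynomial. -/
theorem exists_decomp {K : Type u} [Field K] [Algebra k K] (u : pt K ⟶ T)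
    (hU : (U : Set T.left).Nonempty)
    (hirr : IrreducibleSpace ↥(Limits.pullback T.hom (Spec.map (CommRingCat.ofHom (algebraMap k K))))) :
    ∃ g : MvPolynomial (Fin n) K, g ≠ 0 ∧ ∀ (L : Type u) [Field L] [Algebra k L] (f : K →ₐ[k] L)
      (c : Fin n → L), MvPolynomial.eval₂ f.toRingHom c g ≠ 0 →
      ∃ w w₂ : pt L ⟶ T, In U w ∧ In U w₂ ∧ w * w₂ = ptMap f ≫ u := by
  let j := Spec.map (CommRingCat.ofHom (algebraMap k K))
  let π : Spec (CommRingCat.of (MvPolynomial (Fin n) K)) ⟶ Spec (CommRingCat.of (MvPolynomial (Fin n) k)) :=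
    Spec.map (CommRingCat.ofHom (MvPolynomial.map (algebraMap k K)))
  let YK : (Spec (CommRingCat.of (MvPolynomial (Fin n) K))).Opens := π ⁻¹ᵁ Y
  let toY : (YK : Scheme.{u}) ⟶ (Y : Scheme.{u}) := π.resLE Y YK le_rfl
  let toK : Spec (CommRingCat.of (MvPolynomial (Fin n) K)) ⟶ Spec (CommRingCat.of K) :=
    Spec.map (CommRingCat.ofHom MvPolynomial.C)
  have hπ : π ≫ Spec.map (CommRingCat.ofHom (algebraMap k (MvPolynomial (Fin n) k))) = toK ≫ j := by
    simp only [π, toK, j, ← Spec.map_comp]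
    congr 1
    ext r
    simp
  let Z : Over (Spec (CommRingCat.of k)) := Over.mk (YK.ι ≫ toK ≫ j)
  let bY : Z ⟶ T := Over.homMk (toY ≫ b ≫ U.ι) (by
    change (toY ≫ b ≫ U.ι) ≫ T.hom = YK.ι ≫ toK ≫ j
    simp only [Category.assoc]
    rw [hb, ← hπ]
    simp [toY])
  let qZ : Z ⟶ pt K := Over.homMk (YK.ι ≫ toK) (Category.assoc _ _ _)
  let φ : Z ⟶ T := bY⁻¹ * (qZ ≫ u)
  let O : (Spec (CommRingCat.of (MvPolynomial (Fin n) K))).Opens := YK.ι ''ᵁ (φ.left ⁻¹ᵁ U)
  have hpt : ∀ (L : Type u) [Field L] [Algebra k L] (f : K →ₐ[k] L) (e : MvPolynomial (Fin n) K →+* L),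
      e.comp MvPolynomial.C = f.toRingHom →
      (∀ y, (Spec.map (CommRingCat.ofHom e)).base y ∈ YK) →
      ∃ y' : pt L ⟶ Z, y'.left ≫ YK.ι = Spec.map (CommRingCat.ofHom e) ∧ y' ≫ qZ = ptMap f := by
    intro L _ _ f e he hy
    have hr : Set.range (Spec.map (CommRingCat.ofHom e)) ⊆ Set.range YK.ι := by
      rw [Scheme.Opens.range_ι]
      rintro _ ⟨y, rfl⟩
      exact hy y
    have h1 : Spec.map (CommRingCat.ofHom e) ≫ toK = Spec.map (CommRingCat.ofHom f.toRingHom) := by
      rw [← Spec.map_comp, ← CommRingCat.ofHom_comp, he]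
    refine ⟨Over.homMk (IsOpenImmersion.lift YK.ι (Spec.map (CommRingCat.ofHom e)) hr) ?_,
      IsOpenImmersion.lift_fac _ _ _, ?_⟩
    · change IsOpenImmersion.lift YK.ι _ hr ≫ YK.ι ≫ toK ≫ j = Spec.map _
      rw [IsOpenImmersion.lift_fac_assoc, reassoc_of% h1]
      exact Over.w (ptMap f)
    · apply Over.OverMorphism.ext
      change IsOpenImmersion.lift YK.ι _ hr ≫ YK.ι ≫ toK = _
      rw [IsOpenImmersion.lift_fac_assoc, h1]
      rfl
  have hO : (O : Set (Spec (CommRingCat.of (MvPolynomial (Fin n) K)))).Nonempty := by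
    let TK : Over (Spec (CommRingCat.of k)) := Over.mk (Limits.pullback.snd T.hom j ≫ j)
    let pr : TK ⟶ T := Over.homMk (Limits.pullback.fst T.hom j) Limits.pullback.condition
    let qK : TK ⟶ pt K := Over.homMk (Limits.pullback.snd T.hom j)
    let σ : TK ⟶ T := pr⁻¹ * (qK ≫ u)
    let σ' : TK ⟶ T := (qK ≫ u) * pr⁻¹
    let s' : TK ⟶ TK := Over.homMk
      (Limits.pullback.lift σ'.left (Limits.pullback.snd T.hom j) (Over.w σ')) (by
        change _ ≫ Limits.pullback.snd T.hom j ≫ j = _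
        rw [Limits.pullback.lift_snd_assoc]
        rfl)
    have h1 : s' ≫ pr = σ' := Over.OverMorphism.ext (Limits.pullback.lift_fst _ _ _)
    have h2 : s' ≫ qK = qK := Over.OverMorphism.ext (Limits.pullback.lift_snd _ _ _)
    have h3 : s' ≫ σ = pr := by
      simp only [σ, MonObj.comp_mul, GrpObj.comp_inv, reassoc_of% h2, h1]
      simp [σ']
    haveI : Surjective j := ⟨fun x => ⟨IsLocalRing.closedPoint K, Subsingleton.elim (α := PrimeSpectrum k) _ _⟩⟩
    obtain ⟨t₀, ht₀⟩ := hU
    obtain ⟨p, hp⟩ := (Limits.pullback.fst T.hom j).surjective t₀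
    have hne1 : ((pr.left ⁻¹ᵁ U : TK.left.Opens) : Set TK.left).Nonempty :=
      ⟨p, show pr.left.base p ∈ U from hp ▸ ht₀⟩
    have hne2 : ((σ.left ⁻¹ᵁ U : TK.left.Opens) : Set TK.left).Nonempty := by
      refine ⟨s'.left.base p, show σ.left.base (s'.left.base p) ∈ U from ?_⟩
      rw [← Scheme.Hom.comp_apply, ← Over.comp_left, h3]
      exact hp ▸ ht₀
    haveI : IrreducibleSpace ↥TK.left := hirr
    obtain ⟨w, hw1, hw2⟩ := nonempty_preirreducible_inter (pr.left ⁻¹ᵁ U).2 (σ.left ⁻¹ᵁ U).2 hne1 hne2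
    obtain ⟨L, hL, z, hz⟩ : ∃ (L : Type u) (_ : Field L) (z : Spec (CommRingCat.of L) ⟶ TK.left),
        ∀ y, z.base y = w :=
      ⟨TK.left.residueField w, inferInstance, TK.left.fromSpecResidueField w,
        fun y => TK.left.fromSpecResidueField_apply w y⟩
    let fK : K →+* L := (Spec.preimage (z ≫ Limits.pullback.snd T.hom j)).hom
    letI : Algebra k L := (fK.comp (algebraMap k K)).toAlgebra
    let f : K →ₐ[k] L := { fK with commutes' := fun _ => rfl }
    have hzK : z ≫ Limits.pullback.snd T.hom j = Spec.map (CommRingCat.ofHom f.toRingHom) :=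
      (Spec.map_preimage _).symm
    let ζ : pt L ⟶ TK := Over.homMk z (by
      change z ≫ Limits.pullback.snd T.hom j ≫ j = Spec.map _
      rw [reassoc_of% hzK]
      exact Over.w (ptMap f))
    have hζq : ζ ≫ qK = ptMap f := Over.OverMorphism.ext hzK
    have ht : In U (ζ ≫ pr) := fun y => by
      change (Limits.pullback.fst T.hom j).base (z.base y) ∈ U
      rw [hz y]
      exact hw1
    obtain ⟨v', c, hv', hc⟩ := exists_coord U n Y a ha (ζ ≫ pr) ht
    let e : MvPolynomial (Fin n) K →+* L :=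
      MvPolynomial.eval₂Hom f.toRingHom (fun i => c (MvPolynomial.X i))
    have hec : e.comp (MvPolynomial.map (algebraMap k K)) = c.toRingHom := by
      refine MvPolynomial.ringHom_ext (fun r => ?_) (fun i => ?_)
      · simp [e]
      · simp [e]
    have hπe : Spec.map (CommRingCat.ofHom e) ≫ π = v' ≫ a ≫ Y.ι := by
      rw [← hc, ← hec, CommRingCat.ofHom_comp, Spec.map_comp]
    obtain ⟨y', hy', hyq⟩ := hpt L f e (MvPolynomial.eval₂Hom_comp_C _ _) (fun y => by
      change ((Spec.map (CommRingCat.ofHom e)) ≫ π).base y ∈ Y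
      rw [hπe]
      exact (a.base (v'.base y)).2)
    have htoY : y'.left ≫ toY = v' ≫ a := by
      rw [← cancel_mono Y.ι, Category.assoc, Category.assoc, ← hπe, ← hy', Category.assoc]
      simp [toY]
    have hyb : y' ≫ bY = ζ ≫ pr := by
      apply Over.OverMorphism.ext
      change y'.left ≫ toY ≫ b ≫ U.ι = (ζ ≫ pr).left
      rw [reassoc_of% htoY, reassoc_of% hab, hv']
    have hyφ : y' ≫ φ = ζ ≫ σ := by
      simp only [φ, σ, MonObj.comp_mul, GrpObj.comp_inv, hyb, reassoc_of% hyq, reassoc_of% hζq]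
    let y₀ : Spec (CommRingCat.of L) := IsLocalRing.closedPoint L
    refine ⟨YK.ι.base (y'.left.base y₀), ⟨y'.left.base y₀, ?_, rfl⟩⟩
    change (y' ≫ φ).left.base y₀ ∈ U
    rw [hyφ]
    change σ.left.base (z.base y₀) ∈ U
    rw [hz]
    exact hw2
  obtain ⟨p, hp⟩ := hO
  obtain ⟨_, ⟨g, rfl⟩, hpg, hgO⟩ :=
    PrimeSpectrum.isTopologicalBasis_basic_opens.exists_subset_of_mem_open hp O.2
  refine ⟨g, fun h0 => hpg (by simp [h0]), fun L _ _ f c hc => ?_⟩
  let e : MvPolynomial (Fin n) K →+* L := MvPolynomial.eval₂Hom f.toRingHom c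
  have hin : ∀ y : Spec (CommRingCat.of L), (Spec.map (CommRingCat.ofHom e)).base y ∈ O := by
    intro y
    refine hgO (show g ∉ Ideal.comap e y.asIdeal from ?_)
    rw [(Ideal.eq_bot_or_top y.asIdeal).resolve_right y.isPrime.ne_top]
    simpa [e] using hc
  obtain ⟨y', hy', hyq⟩ := hpt L f e (MvPolynomial.eval₂Hom_comp_C _ _) fun y => by
    obtain ⟨z, -, hz⟩ := hin y
    exact hz ▸ z.2
  refine ⟨y' ≫ bY, y' ≫ φ, fun y => ?_, fun y => ?_, ?_⟩
  · change U.ι.base (b.base (toY.base (y'.left.base y))) ∈ U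
    exact (b.base (toY.base (y'.left.base y))).2
  · obtain ⟨z, hz1, hz2⟩ := hin y
    rw [← hy'] at hz2
    have : z = y'.left.base y := YK.ι.isOpenEmbedding.injective hz2
    subst this
    exact hz1
  · simp only [φ, MonObj.comp_mul, GrpObj.comp_inv, reassoc_of% hyq, mul_inv_cancel_left]

end Groth.Agent.Lib.RetrTorus76.Main
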